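import Groth.Agent.Lib.ArtFun24.Fib
import Mathlib.Tactic.LinearCombination
import Mathlib.LinearAlgebra.Span.Basic

/-! The difference map of a small extension and its consequences for functors. -/

universe u v

open CategoryTheory IsLocalRing ArtFun ArtFun.Art

namespace Groth.Agent.ArtFun24

variable {Λ k : Type u} [CommRing Λ] [Field k] [Algebra Λ k]

lemma map_map_apply (F : Art Λ k ⥤ Type v) {A B C : Art Λ k} (f : A ⟶ B) (g : B ⟶ C) (x : F.obj A) :
    F.map g (F.map f x) = F.map (f ≫ g) x := (FunctorToTypes.map_comp_apply F f g x).symm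

lemma isSmallExt_toBase_dual : IsSmallExt (toBase (Art.dual Λ k)) := by
  have hker : ∀ x : DualNumber k, x ∈ RingHom.ker (toBase (Art.dual Λ k)).toAlgHom ↔
      TrivSqZeroExt.fst x = 0 := fun x => Iff.rfl
  refine ⟨(Art.dual Λ k).res_surjective, ?_, ⟨⟨TrivSqZeroExt.inr 1, ?_⟩⟩, ?_⟩
  · intro h
    have h1 : (TrivSqZeroExt.inr (1 : k) : DualNumber k) ∈ RingHom.ker (toBase (Art.dual Λ k)).toAlgHom :=
      (hker _).2 (TrivSqZeroExt.fst_inr k 1)
    rw [h] at h1
    exact one_ne_zero (congrArg TrivSqZeroExt.snd h1 : (1 : k) = 0)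
  · refine le_antisymm (fun x hx => Ideal.mem_span_singleton'.2 ⟨TrivSqZeroExt.inl
      (TrivSqZeroExt.snd (x : DualNumber k)), ?_⟩) ((Ideal.span_singleton_le_iff_mem _).2
        ((hker _).2 (TrivSqZeroExt.fst_inr k 1)))
    have hx' := (hker x).1 hx
    refine TrivSqZeroExt.ext ?_ ?_
    · show _ * (0 : k) = _
      rw [mul_zero]; exact hx'.symm
    · show TrivSqZeroExt.snd (x : DualNumber k) * 1 + (0 : k) * _ = _
      rw [mul_one]; simp
  · rw [eq_bot_iff, Ideal.mul_le]
    intro a ha b hb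
    rw [mem_maximalIdeal_iff] at ha
    have hb' := (hker b).1 hb
    refine TrivSqZeroExt.ext ?_ ?_
    · show TrivSqZeroExt.fst (a : DualNumber k) * TrivSqZeroExt.fst (b : DualNumber k) = 0
      rw [hb', mul_zero]
    · show TrivSqZeroExt.fst (a : DualNumber k) * TrivSqZeroExt.snd (b : DualNumber k) +
        TrivSqZeroExt.snd (a : DualNumber k) * TrivSqZeroExt.fst (b : DualNumber k) = 0
      rw [hb', show TrivSqZeroExt.fst (a : DualNumber k) = 0 from ha]; simp

lemma cmp_surj {F : Art Λ k ⥤ Type v} {B A A' A'' : Art Λ k} {p' : B ⟶ A'} {p'' : B ⟶ A''}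
    {f' : A' ⟶ A} {f'' : A'' ⟶ A} {h : IsFibreProd p' p'' f' f''}
    (hs : Function.Surjective (cmp F h)) (a : F.obj A') (b : F.obj A'') (e : F.map f' a = F.map f'' b) :
    ∃ z, F.map p' z = a ∧ F.map p'' z = b := by
  obtain ⟨z, hz⟩ := hs ⟨(a, b), e⟩
  exact ⟨z, congrArg (fun t => t.1.1) hz, congrArg (fun t => t.1.2) hz⟩

lemma cmp_inj {F : Art Λ k ⥤ Type v} {B A A' A'' : Art Λ k} {p' : B ⟶ A'} {p'' : B ⟶ A''}
    {f' : A' ⟶ A} {f'' : A'' ⟶ A} {h : IsFibreProd p' p'' f' f''}
    (hs : Function.Injective (cmp F h)) {z z' : F.obj B} (e : F.map p' z = F.map p' z')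
    (e' : F.map p'' z = F.map p'' z') : z = z' := hs (FibProd.ext e e')

variable [IsNoetherianRing Λ] (hk : Function.Surjective (algebraMap Λ k))

/-- For a small extension `π`, the fibre product of `π` with itself is `R₁ ×_k k[ε]`. -/
theorem exists_diff {R₁ R : Art Λ k} (π : R₁ ⟶ R) (hπ : IsSmallExt π) :
    ∃ q : fib hk π π hπ.1 ⟶ Art.dual Λ k,
      IsFibreProd (fibFst hk π π hπ.1) q (toBase R₁) (toBase (Art.dual Λ k)) := by
  obtain ⟨hsurj, hne, hpr, hann⟩ := hπ
  obtain ⟨⟨t, ht⟩⟩ := hpr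
  have ht0 : t ≠ 0 := fun h => hne (by rw [ht, h]; exact Submodule.span_singleton_eq_bot.2 rfl)
  have htk : t ∈ RingHom.ker π.toAlgHom := by rw [ht]; exact Submodule.mem_span_singleton_self t
  have hm : ∀ a, R₁.res a = 0 → a * t = 0 := fun a ha => by
    have := Ideal.mul_mem_mul ((mem_maximalIdeal_iff R₁ a).2 ha) htk
    rwa [hann] at this
  have huniq : ∀ b b' : R₁, b * t = b' * t → R₁.res b = R₁.res b' := fun b b' h => by
    by_contra hne'
    have hu : IsUnit (b - b') := IsLocalRing.notMem_maximalIdeal.1 fun hmem =>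
      hne' (sub_eq_zero.1 ((map_sub R₁.res b b').symm.trans ((mem_maximalIdeal_iff R₁ _).1 hmem)))
    exact ht0 (hu.mul_right_eq_zero.1 (by rw [sub_mul, h, sub_self]))
  have hex : ∀ z, π z = 0 → ∃ b : R₁, b * t = z := fun z hz =>
    Ideal.mem_span_singleton'.1 (by have : z ∈ RingHom.ker π.toAlgHom := hz; rwa [ht] at this)
  let P := fib hk π π hsurj
  have hd : ∀ w : fibSub π π, π (w.1.2 - w.1.1) = 0 := fun w => by
    rw [map_sub, sub_eq_zero]
    exact (w.2 : π w.1.1 = π w.1.2).symm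
  let co : fibSub π π → k := fun w => R₁.res (hex _ (hd w)).choose
  have hco : ∀ (w : fibSub π π) (b : R₁), b * t = w.1.2 - w.1.1 → co w = R₁.res b := fun w b hb =>
    huniq _ _ ((hex _ (hd w)).choose_spec.trans hb.symm)
  have hrr : ∀ w : fibSub π π, R₁.res w.1.1 = R₁.res w.1.2 := fibSub_res π π
  have hcm : ∀ w w' : fibSub π π,
      co (w * w') = R₁.res w.1.1 * co w' + co w * R₁.res w'.1.1 := by
    intro w w'
    obtain ⟨b, hb⟩ := hex _ (hd w)
    obtain ⟨b', hb'⟩ := hex _ (hd w')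
    rw [hco w b hb, hco w' b' hb', hrr w', hco (w * w') (w.1.1 * b' + b * w'.1.2) ?_, map_add, map_mul,
      map_mul]
    show _ = w.1.2 * w'.1.2 - w.1.1 * w'.1.1
    linear_combination w.1.1 * hb' + w'.1.2 * hb
  have hca : ∀ w w' : fibSub π π, co (w + w') = co w + co w' := by
    intro w w'
    obtain ⟨b, hb⟩ := hex _ (hd w)
    obtain ⟨b', hb'⟩ := hex _ (hd w')
    rw [hco w b hb, hco w' b' hb', hco (w + w') (b + b') ?_, map_add]
    show _ = (w.1.2 + w'.1.2) - (w.1.1 + w'.1.1)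
    linear_combination hb + hb'
  have hc0 : ∀ w : fibSub π π, w.1.1 = w.1.2 → co w = 0 := fun w hw => by
    rw [hco w 0 (by rw [zero_mul, hw, sub_self]), map_zero]
  let q : fibSub π π →ₐ[Λ] DualNumber k :=
    { toFun := fun w => TrivSqZeroExt.inl (R₁.res w.1.1) + TrivSqZeroExt.inr (co w)
      map_one' := by rw [hc0 1 rfl]; ext <;> simp
      map_mul' := fun w w' => by
        rw [hcm]
        ext <;> simp [mul_comm, add_comm]
      map_zero' := by rw [hc0 0 rfl]; ext <;> simp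
      map_add' := fun w w' => by
        rw [hca]
        ext <;> simp
      commutes' := fun l => by
        rw [hc0 (algebraMap Λ _ l) rfl]
        ext <;> simp [TrivSqZeroExt.algebraMap_eq_inl'] }
  refine ⟨homMk (B := Art.dual Λ k) q (AlgHom.ext fun w => ?_), ⟨?_, ?_, ?_⟩⟩
  · show TrivSqZeroExt.fst (q w) = R₁.res (w : fibSub π π).1.1
    simp [q]
  · rw [eq_toBase (fibFst hk π π hsurj ≫ toBase R₁), eq_toBase (_ ≫ toBase (Art.dual Λ k))]
  · intro w w' (h₁ : w.1.1 = w'.1.1) (h₂ : q w = q w')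
    have hc : co w = co w' := by
      have := congrArg TrivSqZeroExt.snd h₂
      simpa [q] using this
    obtain ⟨b, hb⟩ := hex _ (hd w)
    obtain ⟨b', hb'⟩ := hex _ (hd w')
    rw [hco w b hb, hco w' b' hb'] at hc
    refine Subtype.ext (Prod.ext h₁ ?_)
    have := hm (b - b') (by rw [map_sub, hc, sub_self])
    linear_combination this - hb + hb' + h₁
  · intro x d (he : R₁.res x = TrivSqZeroExt.fst (d : DualNumber k))
    obtain ⟨l, hl⟩ := R₁.res_surjective (TrivSqZeroExt.snd (d : DualNumber k))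
    have htz : π t = 0 := htk
    let w : fibSub π π := ⟨(x, x + l * t), show π x = π (x + l * t) by
      rw [map_add, map_mul, htz, mul_zero, add_zero]⟩
    have hw : co w = TrivSqZeroExt.snd (d : DualNumber k) := by
      rw [hco w l (by show l * t = x + l * t - x; ring), hl]
    refine ⟨w, rfl, ?_⟩
    show q w = d
    refine TrivSqZeroExt.ext ?_ ?_
    · simp [q, w, he]
    · simp [q, hw]

/-- The diagonal. -/
noncomputable def diag {R₁ R : Art Λ k} (π : R₁ ⟶ R) (hπ : Function.Surjective π) :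
    R₁ ⟶ fib hk π π hπ := fibLift hk π π hπ (𝟙 _) (𝟙 _) rfl

end Groth.Agent.ArtFun24
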