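import Groth.Prelude.Def_ArtFun2
import Mathlib.RingTheory.HopkinsLevitzki
import Mathlib.RingTheory.Finiteness.NilpotentKer
import Mathlib.RingTheory.Adjoin.Basic
import Mathlib.Algebra.Algebra.Subalgebra.Basic

/-! Fibre products and quotients in the category of augmented Artinian local algebras. -/

universe u v

open CategoryTheory IsLocalRing ArtFun ArtFun.Art

namespace Groth.Agent.ArtFun24

variable {Λ k : Type u} [CommRing Λ] [Field k] [Algebra Λ k]

theorem exists_mul_eq_one_of_nil {S : Type u} [CommRing S] [Algebra Λ S] (res : S →ₐ[Λ] k)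
    (hres : Function.Surjective res) (hnil : ∀ x, res x = 0 → IsNilpotent x) (a : S) (ha : res a ≠ 0) :
    IsUnit a := by
  obtain ⟨b, hb⟩ := hres (res a)⁻¹
  have h : res (a * b - 1) = 0 := by rw [map_sub, map_mul, hb, mul_inv_cancel₀ ha, map_one, sub_self]
  have := (hnil _ h).isUnit_one_add
  rw [add_sub_cancel] at this
  exact isUnit_of_mul_isUnit_left this

/-- A Noetherian augmented algebra with nil augmentation ideal. -/
noncomputable def ofNilpotent (S : Type u) [CommRing S] [Algebra Λ S] [IsNoetherianRing S]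
    (res : S →ₐ[Λ] k) (hres : Function.Surjective res) (hnil : ∀ x, res x = 0 → IsNilpotent x) :
    Art Λ k :=
  haveI : Nontrivial S := (res : S →+* k).domain_nontrivial
  haveI : IsLocalRing S := IsLocalRing.of_isUnit_or_isUnit_one_sub_self fun a => by
    by_cases ha : res a = 0
    · exact Or.inr (hnil a ha).isUnit_one_sub
    · exact Or.inl (exists_mul_eq_one_of_nil res hres hnil a ha)
  haveI : IsArtinianRing S := by
    have : Ring.KrullDimLE 0 S := Ring.KrullDimLE.mk₀ fun P hP => by
      have hm := RingHom.ker_isMaximal_of_surjective (res : S →+* k) hres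
      have hle : RingHom.ker (res : S →+* k) ≤ P := fun x hx => by
        obtain ⟨n, hn⟩ := hnil x hx
        exact hP.mem_of_pow_mem n (hn ▸ P.zero_mem)
      rwa [← hm.eq_of_le hP.ne_top hle]
    exact IsNoetherianRing.isArtinianRing_of_krullDimLE_zero
  Art.of S res hres

lemma isNilpotent_of_res (A : Art Λ k) {x : A} (hx : A.res x = 0) : IsNilpotent x := by
  have h : x ∈ maximalIdeal (A : Type u) := (mem_maximalIdeal_iff A x).2 hx
  obtain ⟨n, hn⟩ := IsArtinianRing.isNilpotent_jacobson_bot (R := (A : Type u))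
  rw [IsLocalRing.jacobson_eq_maximalIdeal ⊥ bot_ne_top] at hn
  exact ⟨n, by simpa [hn] using Ideal.pow_mem_pow h n⟩

theorem finite_carrier (hk : Function.Surjective (algebraMap Λ k)) (A : Art Λ k) :
    Module.Finite Λ A := by
  have : Module.Finite Λ k := Module.Finite.of_surjective (Algebra.linearMap Λ k) hk
  refine Module.finite_of_surjective_of_ker_le_nilradical A.res A.res_surjective
    (fun x hx => mem_nilradical.2 (isNilpotent_of_res A hx)) (IsNoetherian.noetherian _)

/-! ### Quotients -/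

/-- Quotient by an ideal inside the maximal ideal. -/
noncomputable def quot (A : Art Λ k) (I : Ideal A) (hI : I ≤ maximalIdeal (A : Type u)) : Art Λ k :=
  ofNilpotent ((A : Type u) ⧸ I)
    (Ideal.Quotient.liftₐ I A.res fun a ha => (mem_maximalIdeal_iff A a).1 (hI ha))
    (fun c => by
      obtain ⟨a, ha⟩ := A.res_surjective c
      exact ⟨Ideal.Quotient.mk I a, ha⟩)
    (fun x hx => by
      obtain ⟨x, rfl⟩ := Ideal.Quotient.mk_surjective x
      exact (isNilpotent_of_res A (x := x) hx).map _)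

/-- The projection to the quotient. -/
noncomputable def quotMk (A : Art Λ k) (I : Ideal A) (hI : I ≤ maximalIdeal (A : Type u)) :
    A ⟶ quot A I hI :=
  homMk (Ideal.Quotient.mkₐ Λ I) (AlgHom.ext fun _ => rfl)

lemma quotMk_surjective (A : Art Λ k) (I : Ideal A) (hI : I ≤ maximalIdeal (A : Type u)) :
    Function.Surjective (quotMk A I hI) := Ideal.Quotient.mk_surjective

lemma quotMk_eq_zero_iff (A : Art Λ k) (I : Ideal A) (hI : I ≤ maximalIdeal (A : Type u)) (a : A) :
    quotMk A I hI a = 0 ↔ a ∈ I := Ideal.Quotient.eq_zero_iff_mem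

/-- Factor a morphism through a surjection with smaller kernel. -/
noncomputable def descSurj {A B C : Art Λ k} (p : A ⟶ B) (hp : Function.Surjective p) (f : A ⟶ C)
    (h : ∀ a, p a = 0 → f a = 0) : B ⟶ C :=
  homMk (AlgHom.liftOfSurjective p.toAlgHom hp f.toAlgHom fun a ha => h a ha) (AlgHom.ext fun b => by
    obtain ⟨a, rfl⟩ := hp b
    rw [AlgHom.comp_apply]
    refine (congrArg C.res (AlgHom.liftOfSurjective_apply p.toAlgHom hp f.toAlgHom (fun a ha => h a ha) a)).trans ?_
    exact (res_app f a).trans (res_app p a).symm)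

lemma comp_descSurj {A B C : Art Λ k} (p : A ⟶ B) (hp : Function.Surjective p) (f : A ⟶ C)
    (h : ∀ a, p a = 0 → f a = 0) : p ≫ descSurj p hp f h = f :=
  hom_ext (AlgHom.ext fun _ => AlgHom.liftOfSurjective_apply p.toAlgHom hp f.toAlgHom (fun a ha => h a ha) _)

lemma exists_inv {A B : Art Λ k} (f : A ⟶ B) (hf : Function.Bijective f) :
    ∃ g : B ⟶ A, f ≫ g = 𝟙 A ∧ g ≫ f = 𝟙 B := by
  have h : ∀ a, f a = 0 → (𝟙 A : A ⟶ A) a = 0 := fun a ha => by
    exact hf.1 (ha.trans (map_zero f.toAlgHom).symm)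
  refine ⟨descSurj f hf.2 (𝟙 A) h, comp_descSurj _ _ _ _, hom_ext (AlgHom.ext fun b => ?_)⟩
  obtain ⟨a, rfl⟩ := hf.2 b
  show f ((f ≫ descSurj f hf.2 (𝟙 A) h) a) = f a
  rw [comp_descSurj]; rfl

/-! ### Fibre products -/

variable [IsNoetherianRing Λ] (hk : Function.Surjective (algebraMap Λ k))
  {A A' A'' : Art Λ k} (f : A' ⟶ A) (g : A'' ⟶ A) (hg : Function.Surjective g)

/-- The set-theoretic fibre product as a subalgebra. -/
abbrev fibSub : Subalgebra Λ (A'.carrier × A''.carrier) :=
  AlgHom.equalizer (f.toAlgHom.comp (AlgHom.fst Λ _ _)) (g.toAlgHom.comp (AlgHom.snd Λ _ _))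

lemma fibSub_res (b : fibSub f g) : A'.res b.1.1 = A''.res b.1.2 := by
  have h := congrArg A.res (show f b.1.1 = g b.1.2 from b.2)
  rwa [res_app, res_app] at h

/-- The fibre product object. -/
noncomputable def fib : Art Λ k :=
  haveI : Module.Finite Λ A' := finite_carrier hk A'
  haveI : Module.Finite Λ A'' := finite_carrier hk A''
  haveI : IsNoetherian Λ (fibSub f g) :=
    isNoetherian_of_injective (fibSub f g).val.toLinearMap Subtype.val_injective
  haveI : IsNoetherianRing (fibSub f g) := IsNoetherianRing.of_finite Λ _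
  ofNilpotent (fibSub f g) ((A'.res.comp (AlgHom.fst Λ _ _)).comp (fibSub f g).val)
    (fun c => by
      obtain ⟨a', ha'⟩ := A'.res_surjective c
      obtain ⟨a'', ha''⟩ := hg (f a')
      exact ⟨⟨(a', a''), ha''.symm⟩, ha'⟩)
    (fun b hb => by
      obtain ⟨n, hn⟩ := isNilpotent_of_res A' (x := b.1.1) hb
      obtain ⟨m, hm⟩ := isNilpotent_of_res A'' (x := b.1.2) ((fibSub_res f g b).symm.trans hb)
      refine ⟨n + m, Subtype.ext (Prod.ext ?_ ?_)⟩
      · simpa using by rw [pow_add, hn, zero_mul]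
      · simpa using by rw [pow_add, hm, mul_zero])

/-- First projection. -/
noncomputable def fibFst : fib hk f g hg ⟶ A' :=
  homMk ((AlgHom.fst Λ _ _).comp (fibSub f g).val) (AlgHom.ext fun _ => rfl)

/-- Second projection. -/
noncomputable def fibSnd : fib hk f g hg ⟶ A'' :=
  homMk ((AlgHom.snd Λ _ _).comp (fibSub f g).val) (AlgHom.ext fun b => (fibSub_res f g b).symm)

theorem isFibreProd_fib : IsFibreProd (fibFst hk f g hg) (fibSnd hk f g hg) f g where
  w := hom_ext (AlgHom.ext fun b => b.2)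
  inj b₁ b₂ h₁ h₂ := Subtype.ext (Prod.ext h₁ h₂)
  surj a' a'' h := ⟨⟨(a', a''), h⟩, rfl, rfl⟩

/-- The universal map. -/
noncomputable def fibLift {T : Art Λ k} (a : T ⟶ A') (b : T ⟶ A'') (h : a ≫ f = b ≫ g) :
    T ⟶ fib hk f g hg :=
  homMk ((AlgHom.prod a.toAlgHom b.toAlgHom).codRestrict (fibSub f g) fun t =>
      show f (a t) = g (b t) by rw [← Art.comp_apply, h]; rfl)
    (AlgHom.ext fun t => res_app a t)

lemma fibLift_fst {T : Art Λ k} (a : T ⟶ A') (b : T ⟶ A'') (h : a ≫ f = b ≫ g) :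
    fibLift hk f g hg a b h ≫ fibFst hk f g hg = a := hom_ext (AlgHom.ext fun _ => rfl)

lemma fibLift_snd {T : Art Λ k} (a : T ⟶ A') (b : T ⟶ A'') (h : a ≫ f = b ≫ g) :
    fibLift hk f g hg a b h ≫ fibSnd hk f g hg = b := hom_ext (AlgHom.ext fun _ => rfl)

end Groth.Agent.ArtFun24
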