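import Groth.Agent.Lib.ArtFun24.Smooth
import Mathlib.RingTheory.Polynomial.Basic
import Mathlib.Algebra.MvPolynomial.Equiv
import Mathlib.Tactic.LinearCombination

/-! A semismall prolongation dominating all small prolongations of a versal element. -/

universe u v

open CategoryTheory IsLocalRing ArtFun ArtFun.Art

namespace Groth.Agent.ArtFun24

variable {Λ k : Type u} [CommRing Λ] [IsLocalRing Λ] [Field k] [Algebra Λ k]
  (hk : Function.Surjective (algebraMap Λ k))

include hk in
lemma algebraMap_eq_zero_iff (l : Λ) : algebraMap Λ k l = 0 ↔ l ∈ maximalIdeal Λ := by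
  rw [← IsLocalRing.eq_maximalIdeal (RingHom.ker_isMaximal_of_surjective (algebraMap Λ k) hk),
    RingHom.mem_ker]

/-- `m² + m_Λ A`. -/
abbrev cotIdeal (A : Art Λ k) : Ideal A :=
  maximalIdeal (A : Type u) ^ 2 ⊔ (maximalIdeal Λ).map (algebraMap Λ A)

/-- Augmentation of the polynomial ring. -/
noncomputable def polyRes (n : ℕ) : MvPolynomial (Fin n) Λ →ₐ[Λ] k := MvPolynomial.aeval 0

include hk in
lemma poly_decomp {n : ℕ} (p : MvPolynomial (Fin n) Λ) :
    ∃ (l : Λ) (c : Fin n → Λ), polyRes (k := k) n p = algebraMap Λ k l ∧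
      p - (MvPolynomial.C l + ∑ i, MvPolynomial.C (c i) * MvPolynomial.X i) ∈
        RingHom.ker (polyRes (Λ := Λ) (k := k) n).toRingHom ^ 2 := by
  set M := RingHom.ker (polyRes (Λ := Λ) (k := k) n).toRingHom with hM
  have hX : ∀ i, (MvPolynomial.X i : MvPolynomial (Fin n) Λ) ∈ M := fun i => by
    simp [hM, RingHom.mem_ker, polyRes]
  induction p using MvPolynomial.induction_on with
  | C a => exact ⟨a, 0, by simp [polyRes], by simp⟩
  | add p q hp hq =>
    obtain ⟨l, c, h₁, h₂⟩ := hp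
    obtain ⟨l', c', h₁', h₂'⟩ := hq
    refine ⟨l + l', c + c', by simp [h₁, h₁'], ?_⟩
    have := Ideal.add_mem _ h₂ h₂'
    convert this using 1
    simp only [map_add, Pi.add_apply, add_mul, Finset.sum_add_distrib]
    ring
  | mul_X p j hp =>
    obtain ⟨l, c, -, h₂⟩ := hp
    refine ⟨0, fun i => if i = j then l else 0, by simp [polyRes], ?_⟩
    have e : ∑ i, MvPolynomial.C (if i = j then l else (0 : Λ)) * MvPolynomial.X i =
        (MvPolynomial.C l : MvPolynomial (Fin n) Λ) * MvPolynomial.X j := by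
      simp [apply_ite (MvPolynomial.C), ite_mul]
    rw [e, map_zero, zero_add, ← sub_mul]
    have h3 : p - MvPolynomial.C l = (p - (MvPolynomial.C l + ∑ i, MvPolynomial.C (c i) * MvPolynomial.X i)) +
        ∑ i, MvPolynomial.C (c i) * MvPolynomial.X i := by ring
    rw [h3, add_mul, Finset.sum_mul]
    refine Ideal.add_mem _ (Ideal.mul_mem_right _ _ h₂) (Ideal.sum_mem _ fun i _ => ?_)
    rw [mul_assoc, sq]
    exact Ideal.mul_mem_left _ _ (Ideal.mul_mem_mul (hX i) (hX j))

variable [IsNoetherianRing Λ]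

include hk in
theorem exists_presentation (R : Art Λ k) :
    ∃ (n : ℕ) (h : MvPolynomial (Fin n) Λ →ₐ[Λ] R), Function.Surjective h ∧
      R.res.comp h = polyRes n ∧
      ∀ p, h p ∈ cotIdeal R → p ∈ RingHom.ker (polyRes (Λ := Λ) (k := k) n).toRingHom ^ 2 ⊔
        (maximalIdeal Λ).map MvPolynomial.C := by
  classical
  let m := maximalIdeal (R : Type u)
  have hgen : ∃ N : ℕ, ∃ s : Finset R, s.card = N ∧ (s : Set R) ⊆ m ∧
      m ≤ Ideal.span (s : Set R) ⊔ cotIdeal R := by
    obtain ⟨s, hs⟩ := (IsNoetherian.noetherian m : (maximalIdeal (R : Type u)).FG)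
    exact ⟨_, s, rfl, fun x hx => hs ▸ Submodule.subset_span hx, le_sup_of_le_left hs.ge⟩
  obtain ⟨s, hcard, hsm, hspan⟩ := Nat.find_spec hgen
  let x : Fin s.card → R := fun i => (s.equivFin.symm i).1
  have hrange : Set.range x = (s : Set R) := by
    ext y
    exact ⟨fun ⟨i, hi⟩ => hi ▸ (s.equivFin.symm i).2, fun hy => ⟨s.equivFin ⟨y, hy⟩, by simp [x]⟩⟩
  have hxm : ∀ i, x i ∈ m := fun i => hsm (s.equivFin.symm i).2
  let h : MvPolynomial (Fin s.card) Λ →ₐ[Λ] R := MvPolynomial.aeval x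
  have hres : R.res.comp h = polyRes s.card := MvPolynomial.algHom_ext fun i => by
    simp only [h, polyRes, AlgHom.comp_apply, MvPolynomial.aeval_X]
    exact (mem_maximalIdeal_iff R _).1 (hxm i)
  have hsurj : Function.Surjective h := by
    let M := RingHom.ker (polyRes (Λ := Λ) (k := k) s.card).toRingHom
    have hM : ∀ p, p ∈ M ↔ h p ∈ m := fun p => by
      rw [RingHom.mem_ker, mem_maximalIdeal_iff, ← AlgHom.comp_apply, hres]; rfl
    have hmap : m ≤ M.map h.toRingHom := by
      refine Submodule.le_of_le_smul_of_le_jacobson_bot (I := m) (IsNoetherian.noetherian _)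
        (IsLocalRing.maximalIdeal_le_jacobson ⊥) ?_
      refine hspan.trans (sup_le (le_sup_of_le_left (Ideal.span_le.2 fun y hy => ?_))
        (sup_le (le_sup_of_le_right (by rw [smul_eq_mul, ← sq])) (le_sup_of_le_left
          (Ideal.map_le_iff_le_comap.2 fun l hl => ?_))))
      · obtain ⟨i, rfl⟩ := hrange.ge hy
        have : MvPolynomial.X i ∈ M := by simp [M, RingHom.mem_ker, polyRes]
        have h2 := Ideal.mem_map_of_mem h.toRingHom this
        rwa [show h.toRingHom (MvPolynomial.X i) = x i from MvPolynomial.aeval_X (R := Λ) x i] at h2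
      · rw [Ideal.mem_comap, ← h.commutes l]
        refine Ideal.mem_map_of_mem h.toRingHom (RingHom.mem_ker.2 ?_)
        exact (AlgHom.commutes _ l).trans ((algebraMap_eq_zero_iff hk l).2 hl)
    have hle : M.map h.toRingHom ≤ m := Ideal.map_le_iff_le_comap.2 fun p hp =>
      Ideal.mem_comap.2 ((hM p).1 hp)
    have hstep : ∀ i, ∀ y : R, ∃ p, y - h p ∈ m ^ i := by
      have hpow : ∀ i, m ^ i ≤ (M ^ i).map h.toRingHom := fun i => by
        rw [Ideal.map_pow]; exact pow_le_pow_left' hmap i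
      have h0 : ∀ y : R, ∃ p, y - h p ∈ m := fun y => by
        obtain ⟨l, hl⟩ := hk (R.res y)
        refine ⟨MvPolynomial.C l, (mem_maximalIdeal_iff R _).2 ?_⟩
        rw [map_sub, ← AlgHom.comp_apply R.res h, hres]
        simp [polyRes, hl]
      intro i
      induction i with
      | zero => exact fun y => ⟨0, by simp⟩
      | succ i ih =>
        intro y
        obtain ⟨p, hp⟩ := ih y
        suffices key : ∀ z ∈ m ^ i, ∃ p, z - h p ∈ m ^ (i + 1) by
          obtain ⟨p', hp'⟩ := key _ hp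
          exact ⟨p + p', by rwa [map_add, ← sub_sub]⟩
        intro z hz
        have hz' := hpow i hz
        rw [Ideal.map, ← Ideal.submodule_span_eq] at hz'
        induction hz' using Submodule.span_induction with
        | mem w hw =>
          obtain ⟨p, -, rfl⟩ := hw
          exact ⟨p, by simp⟩
        | zero => exact ⟨0, by simp⟩
        | add a b ha hb iha ihb =>
          obtain ⟨pa, hpa⟩ := iha ((Ideal.pow_right_mono hle i) ((Ideal.map_pow h.toRingHom M i).le ha))
          obtain ⟨pb, hpb⟩ := ihb ((Ideal.pow_right_mono hle i) ((Ideal.map_pow h.toRingHom M i).le hb))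
          exact ⟨pa + pb, by rw [map_add, add_sub_add_comm]; exact add_mem hpa hpb⟩
        | smul r a ha iha =>
          have hai : a ∈ m ^ i := (Ideal.pow_right_mono hle i) ((Ideal.map_pow h.toRingHom M i).le ha)
          obtain ⟨pa, hpa⟩ := iha hai
          obtain ⟨pr, hpr⟩ := h0 r
          refine ⟨pr * pa, ?_⟩
          rw [smul_eq_mul, map_mul, show r * a - h pr * h pa = (r - h pr) * a + h pr * (a - h pa) by ring]
          exact add_mem (pow_succ' m i ▸ Ideal.mul_mem_mul hpr hai) (Ideal.mul_mem_left _ _ hpa)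
    intro y
    obtain ⟨N, hN⟩ := IsArtinianRing.isNilpotent_jacobson_bot (R := (R : Type u))
    rw [IsLocalRing.jacobson_eq_maximalIdeal ⊥ bot_ne_top] at hN
    obtain ⟨p, hp⟩ := hstep N y
    rw [show m ^ N = ⊥ from hN, Ideal.mem_bot, sub_eq_zero] at hp
    exact ⟨p, hp.symm⟩
  refine ⟨_, h, hsurj, hres, fun p hp => ?_⟩
  obtain ⟨l, c, hl, hr⟩ := poly_decomp hk p
  set M := RingHom.ker (polyRes (Λ := Λ) (k := k) s.card).toRingHom with hMdef
  have hpk : polyRes (k := k) s.card p = 0 := by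
    rw [← hres, AlgHom.comp_apply, ← mem_maximalIdeal_iff]
    exact (sup_le (Ideal.pow_le_self two_ne_zero) (Ideal.map_le_iff_le_comap.2 fun l hl => by
      rw [Ideal.mem_comap, mem_maximalIdeal_iff, R.res.commutes]
      exact (algebraMap_eq_zero_iff hk l).2 hl) : cotIdeal R ≤ m) hp
  have hlm : l ∈ maximalIdeal Λ := (algebraMap_eq_zero_iff hk l).1 (hl.symm.trans hpk)
  have hdec : p = (p - (MvPolynomial.C l + ∑ i, MvPolynomial.C (c i) * MvPolynomial.X i)) +
      MvPolynomial.C l + ∑ i, MvPolynomial.C (c i) * MvPolynomial.X i := by ring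
  have hsum : ∑ i, algebraMap Λ R (c i) * x i ∈ cotIdeal R := by
    have e : ∑ i, algebraMap Λ R (c i) * x i = h p -
        h (p - (MvPolynomial.C l + ∑ i, MvPolynomial.C (c i) * MvPolynomial.X i)) - algebraMap Λ R l := by
      simp [h, map_sum]
    rw [e]
    refine Ideal.sub_mem _ (Ideal.sub_mem _ hp ?_) (Ideal.mem_sup_right (Ideal.mem_map_of_mem _ hlm))
    refine Ideal.mem_sup_left ?_
    have hle : M.map h.toRingHom ≤ m := Ideal.map_le_iff_le_comap.2 fun p hp => by
      rw [Ideal.mem_comap, mem_maximalIdeal_iff]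
      exact (AlgHom.congr_fun hres p).trans hp
    exact Ideal.pow_right_mono hle 2 ((Ideal.map_pow h.toRingHom M 2).le (Ideal.mem_map_of_mem _ hr))
  have hc : ∀ j, c j ∈ maximalIdeal Λ := by
    intro j
    by_contra hj
    have hu : IsUnit (algebraMap Λ R (c j)) := (IsLocalRing.notMem_maximalIdeal.1 hj).map _
    let s' := s.erase (x j)
    have hxj : x j ∈ s := (s.equivFin.symm j).2
    have hj' : x j ∈ Ideal.span (s' : Set R) ⊔ cotIdeal R := by
      rw [← Ideal.unit_mul_mem_iff_mem _ hu,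
        ← sub_sub_cancel (∑ i, algebraMap Λ R (c i) * x i) (algebraMap Λ R (c j) * x j)]
      refine Ideal.sub_mem _ (Ideal.mem_sup_right hsum) (Ideal.mem_sup_left ?_)
      rw [← Finset.sum_erase_eq_sub (Finset.mem_univ j)]
      refine Ideal.sum_mem _ fun i hi => Ideal.mul_mem_left _ _ (Ideal.subset_span ?_)
      refine Finset.mem_erase.2 ⟨fun he => (Finset.mem_erase.1 hi).1 ?_, (s.equivFin.symm i).2⟩
      exact s.equivFin.symm.injective (Subtype.ext he)
    have : Nat.find hgen ≤ s'.card := Nat.find_min' hgen ⟨s', rfl,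
      fun y hy => hsm (Finset.mem_of_mem_erase hy),
      hspan.trans (sup_le (Ideal.span_le.2 fun y hy => by
        by_cases hye : y = x j
        · exact hye ▸ hj'
        · exact Ideal.mem_sup_left (Ideal.subset_span (Finset.mem_erase.2 ⟨hye, hy⟩))) le_sup_right)⟩
    have : s'.card < s.card := Finset.card_erase_lt_of_mem hxj
    omega
  rw [hdec, add_assoc]
  refine Ideal.add_mem _ (Ideal.mem_sup_left hr) (Ideal.mem_sup_right (Ideal.add_mem _
    (Ideal.mem_map_of_mem _ hlm) (Ideal.sum_mem _ fun i _ =>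
      Ideal.mul_mem_right _ _ (Ideal.mem_map_of_mem _ (hc i)))))

include hk in
theorem exists_prolongation (F : Art Λ k ⥤ Type v) (hS1 : S1 F) (hE : Heps F) (R : Art Λ k)
    (a : F.obj R) (hv : ∀ b : F.obj (Art.dual Λ k), ∃ φ : R ⟶ Art.dual Λ k, F.map φ a = b) :
    ∃ (R' : Art Λ k) (q : R' ⟶ R) (a' : F.obj R'), F.map q a' = a ∧ IsSemismallExt q ∧
      (∀ x' : R', x' ∈ maximalIdeal (R' : Type u) → q x' ∈ cotIdeal R → x' ∈ cotIdeal R') ∧
      ∀ (R₁ : Art Λ k) (π₁ : R₁ ⟶ R), IsSmallExt π₁ →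
        ∀ a₁ : F.obj R₁, F.map π₁ a₁ = a → ∃ f : R' ⟶ R₁, f ≫ π₁ = q ∧ F.map f a' = a₁ := by
  obtain ⟨n, h, hsurj, hres, hcot⟩ := exists_presentation hk R
  let M := RingHom.ker (polyRes (Λ := Λ) (k := k) n).toRingHom
  let N : Ideal (MvPolynomial (Fin n) Λ) := M * RingHom.ker h.toRingHom
  have hM : ∀ p, p ∈ M ↔ R.res (h p) = 0 := fun p => by
    rw [RingHom.mem_ker, ← hres]; rfl
  have hNk : N ≤ RingHom.ker h.toRingHom := Ideal.mul_le_right
  let res₀ : MvPolynomial (Fin n) Λ ⧸ N →ₐ[Λ] k := Ideal.Quotient.liftₐ N (polyRes n) fun p hp =>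
    (hM p).2 (by rw [show h p = 0 from hNk hp, map_zero])
  haveI : IsNoetherianRing (MvPolynomial (Fin n) Λ ⧸ N) :=
    isNoetherianRing_of_surjective _ _ (Ideal.Quotient.mk N) Ideal.Quotient.mk_surjective
  let R₀ : Art Λ k := ofNilpotent (MvPolynomial (Fin n) Λ ⧸ N) res₀
    (fun c => by
      obtain ⟨l, hl⟩ := hk c
      exact ⟨algebraMap Λ _ l, (res₀.commutes l).trans hl⟩)
    (fun x hx => by
      obtain ⟨p, rfl⟩ := Ideal.Quotient.mk_surjective x
      obtain ⟨i, hi⟩ := isNilpotent_of_res R ((hM p).1 hx)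
      refine ⟨i + 1, ?_⟩
      rw [← map_pow, Ideal.Quotient.eq_zero_iff_mem, pow_succ']
      exact Ideal.mul_mem_mul hx (show h.toRingHom (p ^ i) = 0 by simpa using hi))
  let q₀ : R₀ ⟶ R := homMk (A := R₀) (Ideal.Quotient.liftₐ N h fun p hp => hNk hp) (AlgHom.ext fun x => by
    obtain ⟨p, rfl⟩ := Ideal.Quotient.mk_surjective x
    exact AlgHom.congr_fun hres p)
  have hq₀ : Function.Surjective q₀ := fun y => by
    obtain ⟨p, hp⟩ := hsurj y
    exact ⟨Ideal.Quotient.mk N p, hp⟩
  have hann : ∀ x y : R₀, R₀.res x = 0 → q₀ y = 0 → x * y = 0 := by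
    intro x y hx hy
    obtain ⟨p, rfl⟩ := Ideal.Quotient.mk_surjective x
    obtain ⟨j, rfl⟩ := Ideal.Quotient.mk_surjective y
    exact (map_mul (Ideal.Quotient.mk N) p j).symm.trans
      (Ideal.Quotient.eq_zero_iff_mem.2 (Ideal.mul_mem_mul hx hy))
  let J : Ideal R₀ := RingHom.ker q₀.toAlgHom
  have hJm : J ≤ maximalIdeal (R₀ : Type u) := fun x hx => (mem_maximalIdeal_iff R₀ x).2 (by
    rw [← res_app q₀, show q₀ x = 0 from hx, map_zero])
  let proj : ∀ K (hK : K ≤ J), quot R₀ K (hK.trans hJm) ⟶ R := fun K hK =>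
    descSurj (quotMk R₀ K _) (quotMk_surjective R₀ K _) q₀ fun x hx =>
      hK ((quotMk_eq_zero_iff R₀ K _ x).1 hx)
  have hproj : ∀ K hK x, proj K hK (quotMk R₀ K _ x) = q₀ x := fun K hK x => by
    rw [← Art.comp_apply, comp_descSurj]
  let S : Set (Ideal R₀) := {K | ∃ (hK : K ≤ J) (b : F.obj (quot R₀ K (hK.trans hJm))),
    F.map (proj K hK) b = a}
  have hJS : J ∈ S := by
    have hb : Function.Bijective (proj J le_rfl) := by
      refine ⟨(injective_iff_map_eq_zero _).2 fun x hx => ?_, fun y => ?_⟩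
      · obtain ⟨x, rfl⟩ := quotMk_surjective R₀ J _ x
        exact (quotMk_eq_zero_iff R₀ J _ x).2 ((hproj J le_rfl x).symm.trans hx)
      · obtain ⟨x, rfl⟩ := hq₀ y
        exact ⟨_, hproj J le_rfl x⟩
    obtain ⟨g, -, hg⟩ := exists_inv _ hb
    exact ⟨le_rfl, F.map g a, by rw [map_map_apply, hg, Functor.map_id_apply]⟩
  obtain ⟨K, ⟨hK, a', ha'⟩, hmin⟩ := WellFounded.has_min wellFounded_lt S ⟨J, hJS⟩
  have hKm := hK.trans hJm
  let mkK := quotMk R₀ K hKm
  have hmkK : Function.Surjective mkK := quotMk_surjective R₀ K hKm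
  refine ⟨quot R₀ K hKm, proj K hK, a', ha', ⟨fun y => ?_, ?_⟩, ?_, ?_⟩
  · obtain ⟨x, rfl⟩ := hq₀ y
    exact ⟨_, hproj K hK x⟩
  · rw [eq_bot_iff, Ideal.mul_le]
    intro x hx y hy
    obtain ⟨x, rfl⟩ := hmkK x
    obtain ⟨y, rfl⟩ := hmkK y
    rw [mem_maximalIdeal_iff, res_app] at hx
    rw [Ideal.mem_bot, ← map_mul, hann x y hx ((hproj K hK y).symm.trans hy), map_zero]
  · intro x' _ hx'
    obtain ⟨x, rfl⟩ := hmkK x'
    rw [hproj] at hx'
    obtain ⟨p, rfl⟩ := Ideal.Quotient.mk_surjective x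
    let τ : MvPolynomial (Fin n) Λ →ₐ[Λ] quot R₀ K hKm :=
      mkK.toAlgHom.comp (Ideal.Quotient.mkₐ Λ N)
    show τ p ∈ cotIdeal (quot R₀ K hKm)
    have h1 := Ideal.mem_map_of_mem τ.toRingHom (hcot p hx')
    rw [Ideal.map_sup, Ideal.map_pow, Ideal.map_map] at h1
    refine (sup_le ?_ ?_ : _ ≤ cotIdeal (quot R₀ K hKm)) h1
    · refine le_sup_of_le_left (Ideal.pow_right_mono ?_ 2)
      refine Ideal.map_le_iff_le_comap.2 fun m hm => ?_
      rw [Ideal.mem_comap, mem_maximalIdeal_iff]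
      exact (res_app mkK _).trans hm
    · refine le_sup_of_le_right (le_of_eq ?_)
      congr 1
  · intro R₁ π₁ hπ a₁ ha₁
    let q := proj K hK
    have hsq := isFibreProd_fib hk q π₁ hπ.1
    obtain ⟨z, hz₁, hz₂⟩ := cmp_surj (hS1 _ _ _ _ hsq hπ.1) a' a₁ (by rw [ha', ha₁])
    let C := fib hk q π₁ hπ.1
    let fst : C ⟶ quot R₀ K hKm := fibFst hk q π₁ hπ.1
    let snd : C ⟶ R₁ := fibSnd hk q π₁ hπ.1
    have hfst : Function.Surjective fst := fun y => by
      obtain ⟨y₁, hy₁⟩ := hπ.1 (q y)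
      obtain ⟨b, hb, -⟩ := hsq.surj y y₁ hy₁.symm
      exact ⟨b, hb⟩
    choose w hw using fun i => hfst (mkK (Ideal.Quotient.mk N (MvPolynomial.X i)))
    let g : MvPolynomial (Fin n) Λ →ₐ[Λ] C := MvPolynomial.aeval w
    have hg : ∀ p, fst (g p) = mkK (Ideal.Quotient.mk N p) := by
      have : fst.toAlgHom.comp g = mkK.toAlgHom.comp (Ideal.Quotient.mkₐ Λ N) :=
        MvPolynomial.algHom_ext fun i => by simp [g, hw]; rfl
      exact fun p => AlgHom.congr_fun this p
    have hgres : ∀ p, C.res (g p) = polyRes n p := fun p => by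
      rw [← res_app fst, hg, res_app]
      rfl
    have hgN : ∀ p ∈ N, g p = 0 := by
      intro p hp
      induction hp using Submodule.mul_induction_on' with
      | mem_mul_mem m hm j hj =>
        refine hsq.inj _ _ ?_ ?_
        · rw [map_zero]
          show fst (g (m * j)) = 0
          rw [hg, Ideal.Quotient.eq_zero_iff_mem.2 (Ideal.mul_mem_mul hm hj)]; exact map_zero mkK.toAlgHom
        · rw [map_zero]
          show snd (g (m * j)) = 0
          rw [map_mul, map_mul]
          have hj' : snd (g j) ∈ RingHom.ker π₁.toAlgHom := by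
            show π₁ (snd (g j)) = 0
            rw [← hsq.w_apply (g j)]
            show q (fst (g j)) = 0
            rw [hg]
            exact (hproj K hK _).trans hj
          have hm' : snd (g m) ∈ maximalIdeal (R₁ : Type u) := by
            rw [mem_maximalIdeal_iff, res_app, hgres]
            exact hm
          have := Ideal.mul_mem_mul hm' hj'
          rwa [hπ.2.2.2] at this
      | add x _ y _ hx hy => rw [map_add, hx, hy, add_zero]
    let g₀ : R₀ ⟶ C := homMk (A := R₀) (Ideal.Quotient.liftₐ N g hgN) (AlgHom.ext fun x => by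
      obtain ⟨p, rfl⟩ := Ideal.Quotient.mk_surjective x
      exact hgres p)
    have hg₀ : g₀ ≫ fst = mkK := hom_ext (AlgHom.ext fun x => by
      obtain ⟨p, rfl⟩ := Ideal.Quotient.mk_surjective x
      exact hg p)
    obtain ⟨t, ht⟩ := hπ.2.2.1.1
    have hkill : ∀ u, mkK u = 0 → g₀ u = 0 := by
      by_contra hne
      obtain ⟨u, hu, hu0⟩ : ∃ u, mkK u = 0 ∧ g₀ u ≠ 0 := by simpa only [not_forall, exists_prop] using hne
      have hu1 : fst (g₀ u) = 0 := by rw [← Art.comp_apply, hg₀, hu]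
      have hu2 : snd (g₀ u) ≠ 0 := fun h => hu0 (hsq.inj _ _ (hu1.trans (map_zero fst.toAlgHom).symm)
        (h.trans (map_zero snd.toAlgHom).symm))
      have hu3 : π₁ (snd (g₀ u)) = 0 := by
        rw [← hsq.w_apply (g₀ u)]
        show q (fst (g₀ u)) = 0
        rw [hu1, map_zero]
      obtain ⟨b, hb⟩ := Ideal.mem_span_singleton'.1
        (by have : snd (g₀ u) ∈ RingHom.ker π₁.toAlgHom := hu3; rwa [ht] at this)
      have hmt : ∀ c, R₁.res c = 0 → c * t = 0 := fun c hc => by
        have := Ideal.mul_mem_mul ((mem_maximalIdeal_iff R₁ c).2 hc)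
          (show t ∈ RingHom.ker π₁.toAlgHom by rw [ht]; exact Submodule.mem_span_singleton_self t)
        rwa [hπ.2.2.2] at this
      have hb0 : R₁.res b ≠ 0 := fun h => hu2 (hb ▸ hmt b h)
      have hsur : Function.Surjective g₀ := by
        intro c
        obtain ⟨v, hv'⟩ := hmkK (fst c)
        have hd : π₁ (snd (c - g₀ v)) = 0 := by
          rw [← hsq.w_apply]
          show q (fst (c - g₀ v)) = 0
          rw [map_sub, ← Art.comp_apply g₀ fst, hg₀, hv', sub_self, map_zero]
        obtain ⟨e, he⟩ := Ideal.mem_span_singleton'.1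
          (by have : snd (c - g₀ v) ∈ RingHom.ker π₁.toAlgHom := hd; rwa [ht] at this)
        obtain ⟨l, hl⟩ := hk (R₁.res e / R₁.res b)
        refine ⟨v + algebraMap Λ R₀ l * u, hsq.inj _ _ ?_ ?_⟩
        · show fst (g₀ (v + algebraMap Λ R₀ l * u)) = fst c
          rw [map_add, map_add, map_mul, map_mul, hu1, mul_zero, add_zero, ← Art.comp_apply g₀ fst, hg₀, hv']
        · show snd (g₀ (v + algebraMap Λ R₀ l * u)) = snd c
          rw [map_add, map_add, map_mul, map_mul, AlgHom.commutes, AlgHom.commutes, ← hb]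
          have h4 := hmt (algebraMap Λ R₁ l * b - e) (by
            rw [map_sub, map_mul, R₁.res.commutes, hl, div_mul_cancel₀ _ hb0, sub_self])
          rw [map_sub] at he
          linear_combination h4 + he
      let K₁ : Ideal R₀ := RingHom.ker g₀.toAlgHom
      have hK₁ : K₁ ≤ K := fun x hx => by
        rw [← quotMk_eq_zero_iff R₀ K hKm]
        show mkK x = 0
        rw [← hg₀, Art.comp_apply, show g₀ x = 0 from hx, map_zero]
      have hK₁J := hK₁.trans hK
      have hK₁m := hK₁J.trans hJm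
      let e := descSurj (quotMk R₀ K₁ hK₁m) (quotMk_surjective R₀ K₁ hK₁m) g₀ fun x hx =>
        (quotMk_eq_zero_iff R₀ K₁ hK₁m x).1 hx
      have hem : ∀ x, e (quotMk R₀ K₁ hK₁m x) = g₀ x := fun x => by
        rw [← Art.comp_apply, comp_descSurj]
      have he : Function.Bijective e := by
        refine ⟨(injective_iff_map_eq_zero _).2 fun y hy => ?_, fun y => ?_⟩
        · obtain ⟨x, rfl⟩ := quotMk_surjective R₀ K₁ hK₁m y
          exact (quotMk_eq_zero_iff R₀ K₁ hK₁m x).2 ((hem x).symm.trans hy)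
        · obtain ⟨x, rfl⟩ := hsur y
          exact ⟨_, hem x⟩
      obtain ⟨ei, -, hei⟩ := exists_inv e he
      have hprojK₁ : proj K₁ hK₁J = e ≫ fst ≫ q := hom_ext (AlgHom.ext fun y => by
        obtain ⟨x, rfl⟩ := quotMk_surjective R₀ K₁ hK₁m y
        rw [Art.comp_apply, Art.comp_apply, hem, ← Art.comp_apply g₀ fst, hg₀]
        exact (hproj K₁ hK₁J x).trans (hproj K hK x).symm)
      have hK₁S : K₁ ∈ S := ⟨hK₁J, F.map ei z, by
        rw [map_map_apply, hprojK₁, ← Category.assoc, hei, Category.id_comp, ← map_map_apply,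
          hz₁, ha']⟩
      have hKe : K ≤ K₁ := (eq_of_le_of_not_lt hK₁ (hmin K₁ hK₁S)).ge
      exact hu0 (hKe ((quotMk_eq_zero_iff R₀ K hKm u).1 hu))
    let s := descSurj mkK hmkK g₀ hkill
    have hs : s ≫ fst = 𝟙 _ := hom_ext (AlgHom.ext fun y => by
      obtain ⟨x, rfl⟩ := hmkK y
      rw [Art.comp_apply, ← Art.comp_apply mkK s, comp_descSurj, ← Art.comp_apply g₀ fst, hg₀]
      rfl)
    have hf : (s ≫ snd) ≫ π₁ = q := by
      rw [Category.assoc, ← hsq.w, ← Category.assoc]
      exact (congrArg (· ≫ q) hs).trans (Category.id_comp q)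
    obtain ⟨f', h₁', h₂'⟩ := exists_lift hk hS1 hE π₁ hπ a a₁ a' ha₁ (s ≫ snd)
      (by rw [hf]; exact ha') hv
    exact ⟨f', h₁'.trans hf, h₂'⟩

end Groth.Agent.ArtFun24
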