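import Groth.Agent.Lib.ArtFun24.Diff
import Mathlib.RingTheory.Nakayama

/-! Injectivity on tangent spaces gives objectwise injectivity; lifting along small extensions. -/

universe u v

open CategoryTheory IsLocalRing ArtFun ArtFun.Art

namespace Groth.Agent.ArtFun24

variable {Λ k : Type u} [CommRing Λ] [Field k] [Algebra Λ k] [IsNoetherianRing Λ]
  (hk : Function.Surjective (algebraMap Λ k))

lemma map_injective_of_bijective (F : Art Λ k ⥤ Type v) {A B : Art Λ k} (f : A ⟶ B)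
    (hf : Function.Bijective f) : Function.Injective (F.map f) := by
  obtain ⟨g, hg, -⟩ := exists_inv f hf
  intro x y h
  have := congrArg (F.map g) h
  rwa [map_map_apply, map_map_apply, hg, Functor.map_id_apply,
    Functor.map_id_apply] at this

include hk in
/-- A small extension step. -/
theorem injective_step {G H : Art Λ k ⥤ Type v} (ψ : G ⟶ H) (hS1 : S1 G) (hE : Heps G)
    (hH : ∀ ⦃B A A' A'' : Art Λ k⦄ (p' : B ⟶ A') (p'' : B ⟶ A'') (f' : A' ⟶ A) (f'' : A'' ⟶ A)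
      (h : IsFibreProd p' p'' f' f''), Function.Surjective f'' → Function.Bijective (cmp H h))
    (hψ : Function.Injective (TangentSpace.map ψ)) {R₁ R : Art Λ k} (π : R₁ ⟶ R) (hπ : IsSmallExt π)
    (b₁ b₂ : G.obj R₁) (h : G.map π b₁ = G.map π b₂) (h' : ψ.app R₁ b₁ = ψ.app R₁ b₂) : b₁ = b₂ := by
  obtain ⟨q, hq⟩ := exists_diff hk π hπ
  have hsq := isFibreProd_fib hk π π hπ.1
  obtain ⟨z, hz₁, hz₂⟩ := cmp_surj (hS1 _ _ _ _ hsq hπ.1) b₁ b₂ h
  have hd₁ : diag hk π hπ.1 ≫ fibFst hk π π hπ.1 = 𝟙 R₁ := fibLift_fst ..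
  have hd₂ : diag hk π hπ.1 ≫ fibSnd hk π π hπ.1 = 𝟙 R₁ := fibLift_snd ..
  have hψz : ψ.app _ z = H.map (diag hk π hπ.1) (ψ.app R₁ b₁) := by
    refine cmp_inj (hH _ _ _ _ hsq hπ.1).1 ?_ ?_
    · rw [map_map_apply, hd₁, Functor.map_id_apply, ← NatTrans.naturality_apply ψ, hz₁]
    · rw [map_map_apply, hd₂, Functor.map_id_apply, ← NatTrans.naturality_apply ψ, hz₂, h']
  have hz : z = G.map (diag hk π hπ.1) b₁ := by
    refine cmp_inj (hE _ _ hq).1 ?_ ?_
    · rw [map_map_apply, hd₁, Functor.map_id_apply, hz₁]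
    · refine hψ ?_
      show ψ.app _ (G.map q z) = ψ.app _ (G.map q (G.map (diag hk π hπ.1) b₁))
      rw [map_map_apply, NatTrans.naturality_apply ψ q z,
        NatTrans.naturality_apply ψ (diag hk π hπ.1 ≫ q) b₁, hψz, map_map_apply]
  rw [← hz₂, hz, map_map_apply, hd₂, Functor.map_id_apply]

include hk in
theorem injective_app {G H : Art Λ k ⥤ Type v} (ψ : G ⟶ H) (hG0 : H0 G) (hS1 : S1 G) (hE : Heps G)
    (hH : ∀ ⦃B A A' A'' : Art Λ k⦄ (p' : B ⟶ A') (p'' : B ⟶ A'') (f' : A' ⟶ A) (f'' : A'' ⟶ A)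
      (h : IsFibreProd p' p'' f' f''), Function.Surjective f'' → Function.Bijective (cmp H h))
    (hψ : Function.Injective (TangentSpace.map ψ)) (A : Art Λ k) : Function.Injective (ψ.app A) := by
  intro b₁ b₂ hb
  let S : Set (Ideal A) :=
    {I | ∃ hI : I ≤ maximalIdeal (A : Type u), G.map (quotMk A I hI) b₁ = G.map (quotMk A I hI) b₂}
  have htop : maximalIdeal (A : Type u) ∈ S := by
    refine ⟨le_rfl, map_injective_of_bijective G (toBase (quot A _ le_rfl))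
      ⟨?_, (quot A _ le_rfl).res_surjective⟩ (hG0.2.elim _ _)⟩
    intro x y hxy
    obtain ⟨x, rfl⟩ := quotMk_surjective A _ le_rfl x
    obtain ⟨y, rfl⟩ := quotMk_surjective A _ le_rfl y
    rw [← sub_eq_zero, ← map_sub, quotMk_eq_zero_iff, mem_maximalIdeal_iff, map_sub, sub_eq_zero]
    exact hxy
  obtain ⟨I, ⟨hI, hIb⟩, hmin⟩ := WellFounded.has_min wellFounded_lt S ⟨_, htop⟩
  by_cases h0 : I = ⊥
  · subst h0
    refine map_injective_of_bijective G (quotMk A ⊥ hI) ⟨?_, quotMk_surjective A ⊥ hI⟩ hIb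
    intro x y hxy
    rw [← sub_eq_zero, ← Ideal.mem_bot (R := (A : Type u)), ← quotMk_eq_zero_iff A ⊥ hI, map_sub,
      sub_eq_zero]
    exact hxy
  exfalso
  have hlt : maximalIdeal (A : Type u) * I < I := lt_of_le_of_ne Ideal.mul_le_right fun he => h0
    (le_bot_iff.1 (Submodule.le_of_le_smul_of_le_jacobson_bot (N := ⊥) (IsNoetherian.noetherian I)
      (maximalIdeal_le_jacobson ⊥) (by rw [bot_sup_eq, smul_eq_mul, he])))
  obtain ⟨J, ⟨hmJ, hJI⟩, hmax⟩ := WellFounded.has_min (wellFounded_gt (α := Ideal A))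
    {J : Ideal A | maximalIdeal (A : Type u) * I ≤ J ∧ J < I} ⟨_, le_rfl, hlt⟩
  obtain ⟨t, htI, htJ⟩ := SetLike.exists_of_lt hJI
  have hIt : I = J ⊔ Ideal.span {t} := by
    by_contra hne
    refine hmax _ ⟨hmJ.trans le_sup_left, lt_of_le_of_ne
      (sup_le hJI.le ((Ideal.span_singleton_le_iff_mem _).2 htI)) (Ne.symm hne)⟩ ?_
    exact lt_of_le_of_ne le_sup_left fun he =>
      htJ (he ▸ Ideal.mem_sup_right (Ideal.mem_span_singleton_self t))
  have hJ : J ≤ maximalIdeal (A : Type u) := hJI.le.trans hI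
  let π := descSurj (quotMk A J hJ) (quotMk_surjective A J hJ) (quotMk A I hI) fun a ha =>
    (quotMk_eq_zero_iff A I hI a).2 (hJI.le ((quotMk_eq_zero_iff A J hJ a).1 ha))
  have hπ : quotMk A J hJ ≫ π = quotMk A I hI := comp_descSurj _ _ _ _
  have hπa : ∀ a, π (quotMk A J hJ a) = quotMk A I hI a := fun a => by
    rw [← Art.comp_apply, hπ]
  have hker : RingHom.ker π.toAlgHom = Ideal.span {quotMk A J hJ t} := by
    refine le_antisymm (fun x hx => ?_) ((Ideal.span_singleton_le_iff_mem _).2 ?_)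
    · obtain ⟨a, rfl⟩ := quotMk_surjective A J hJ x
      have ha : a ∈ I := (quotMk_eq_zero_iff A I hI a).1 ((hπa a).symm.trans hx)
      rw [hIt, Submodule.mem_sup] at ha
      obtain ⟨j, hj, s, hs, rfl⟩ := ha
      obtain ⟨r, rfl⟩ := Ideal.mem_span_singleton'.1 hs
      rw [map_add, (quotMk_eq_zero_iff A J hJ j).2 hj, zero_add, map_mul]
      exact Ideal.mul_mem_left _ _ (Ideal.mem_span_singleton_self _)
    · exact (hπa t).trans ((quotMk_eq_zero_iff A I hI t).2 htI)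
  have hsmall : IsSmallExt π := by
    refine ⟨fun x => ?_, ?_, ⟨⟨_, hker⟩⟩, ?_⟩
    · obtain ⟨a, rfl⟩ := quotMk_surjective A I hI x
      exact ⟨_, hπa a⟩
    · rw [hker]
      intro h
      exact htJ ((quotMk_eq_zero_iff A J hJ t).1 (Ideal.span_singleton_eq_bot.1 h))
    · rw [eq_bot_iff, Ideal.mul_le]
      intro x hx y hy
      obtain ⟨a, rfl⟩ := quotMk_surjective A J hJ x
      obtain ⟨b, rfl⟩ := quotMk_surjective A J hJ y
      rw [Ideal.mem_bot, ← map_mul, quotMk_eq_zero_iff]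
      refine hmJ (Ideal.mul_mem_mul ?_ ((quotMk_eq_zero_iff A I hI b).1 ((hπa b).symm.trans hy)))
      rw [mem_maximalIdeal_iff] at hx ⊢
      rwa [res_app] at hx
  refine hmin J ⟨hJ, injective_step hk ψ hS1 hE hH hψ π hsmall _ _ ?_ ?_⟩ hJI
  · rw [map_map_apply, map_map_apply, hπ, hIb]
  · rw [NatTrans.naturality_apply ψ, NatTrans.naturality_apply ψ, hb]

include hk in
theorem exists_lift {F : Art Λ k ⥤ Type v} (hS1 : S1 F) (hE : Heps F) {R R₁ R' : Art Λ k}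
    (π₁ : R₁ ⟶ R) (hπ : IsSmallExt π₁) (a : F.obj R) (a₁ : F.obj R₁) (a' : F.obj R')
    (h₁ : F.map π₁ a₁ = a) (f : R' ⟶ R₁) (h' : F.map (f ≫ π₁) a' = a)
    (hv : ∀ b : F.obj (Art.dual Λ k), ∃ φ : R ⟶ Art.dual Λ k, F.map φ a = b) :
    ∃ f' : R' ⟶ R₁, f' ≫ π₁ = f ≫ π₁ ∧ F.map f' a' = a₁ := by
  obtain ⟨q, hq⟩ := exists_diff hk π₁ hπ
  have hsq := isFibreProd_fib hk π₁ π₁ hπ.1
  obtain ⟨z, hz₁, hz₂⟩ := cmp_surj (hS1 _ _ _ _ hsq hπ.1) (F.map f a') a₁
    (by rw [map_map_apply, h', h₁])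
  obtain ⟨φ, hφ⟩ := hv (F.map q z)
  have hb : ∀ x, ∃ w, fibFst hk π₁ π₁ hπ.1 w = f x ∧ q w = ((f ≫ π₁) ≫ φ) x := fun x =>
    hq.surj _ _ (show R₁.res (f x) = (Art.dual Λ k).res (((f ≫ π₁) ≫ φ) x) by rw [res_app, res_app])
  choose ν hν₁ hν₂ using hb
  let νh : R'.carrier →ₐ[Λ] (fib hk π₁ π₁ hπ.1).carrier :=
    { toFun := ν
      map_one' := hq.inj _ _ (by rw [hν₁, map_one, map_one]) (by rw [hν₂, map_one, map_one])
      map_mul' := fun x y => hq.inj _ _ (by rw [hν₁, map_mul, map_mul, hν₁, hν₁])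
        (by rw [hν₂, map_mul, map_mul, hν₂, hν₂])
      map_zero' := hq.inj _ _ (by rw [hν₁, map_zero, map_zero]) (by rw [hν₂, map_zero, map_zero])
      map_add' := fun x y => hq.inj _ _ (by rw [hν₁, map_add, map_add, hν₁, hν₁])
        (by rw [hν₂, map_add, map_add, hν₂, hν₂])
      commutes' := fun l => hq.inj _ _ (by rw [hν₁, AlgHom.commutes, AlgHom.commutes])
        (by rw [hν₂, AlgHom.commutes, AlgHom.commutes]) }
  let n : R' ⟶ fib hk π₁ π₁ hπ.1 := homMk νh (AlgHom.ext fun x => by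
    show (fib hk π₁ π₁ hπ.1).res (ν x) = R'.res x
    rw [← res_app (fibFst hk π₁ π₁ hπ.1), hν₁, res_app])
  have hn₁ : n ≫ fibFst hk π₁ π₁ hπ.1 = f := hom_ext (AlgHom.ext hν₁)
  have hn₂ : n ≫ q = (f ≫ π₁) ≫ φ := hom_ext (AlgHom.ext hν₂)
  refine ⟨n ≫ fibSnd hk π₁ π₁ hπ.1, ?_, ?_⟩
  · rw [Category.assoc, ← hsq.w, ← Category.assoc, hn₁]
  · have : F.map n a' = z := cmp_inj (hE _ _ hq).1 (by rw [map_map_apply, hn₁, hz₁])
      (by rw [map_map_apply, hn₂, ← map_map_apply F _ φ, h', hφ])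
    rw [← map_map_apply, this, hz₂]

theorem isSmooth_comp_iff {F G H : Art Λ k ⥤ Type v} (φ : F ⟶ G) (ψ : G ⟶ H)
    (hF : H0 F) (hH0 : H0 H) (hi : ∀ A, Function.Injective (ψ.app A)) :
    IsSmooth (φ ≫ ψ) ↔ (IsSmooth φ ∧ IsSmooth ψ) := by
  constructor
  · intro hs
    constructor
    · intro B A μ hμ y
      obtain ⟨c, hc⟩ := hs μ hμ ⟨(y.1.1, ψ.app B y.1.2), by
        show ψ.app A (φ.app A y.1.1) = _
        rw [y.2, NatTrans.naturality_apply ψ]⟩
      exact ⟨c, Subtype.ext (Prod.ext (congrArg (fun t => t.1.1) hc)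
        (hi B (congrArg (fun t => t.1.2) hc : ψ.app B (φ.app B c) = ψ.app B y.1.2)))⟩
    · intro B A μ hμ y
      obtain ⟨e⟩ := hF.1
      obtain ⟨a, ha⟩ := hs (toBase A) A.res_surjective ⟨(e, ψ.app A y.1.1), hH0.2.elim _ _⟩
      have ha' : φ.app A a = y.1.1 := hi A (congrArg (fun t => t.1.2) ha)
      obtain ⟨c, hc⟩ := hs μ hμ ⟨(a, y.1.2), by
        show ψ.app A (φ.app A a) = _
        rw [ha']; exact y.2⟩
      refine ⟨φ.app B c, Subtype.ext (Prod.ext ?_ (congrArg (fun t => t.1.2) hc))⟩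
      show G.map μ (φ.app B c) = y.1.1
      have hc1 : F.map μ c = a := congrArg (fun t => t.1.1) hc
      rw [← NatTrans.naturality_apply φ μ, hc1, ha']
  · rintro ⟨h₁, h₂⟩ B A μ hμ y
    obtain ⟨g, hg⟩ := h₂ μ hμ ⟨(φ.app A y.1.1, y.1.2), y.2⟩
    obtain ⟨c, hc⟩ := h₁ μ hμ ⟨(y.1.1, g), (congrArg (fun t => t.1.1) hg).symm⟩
    refine ⟨c, Subtype.ext (Prod.ext (congrArg (fun t => t.1.1) hc) ?_)⟩
    show ψ.app B (φ.app B c) = y.1.2
    have hc2 : φ.app B c = g := congrArg (fun t => t.1.2) hc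
    rw [hc2]
    exact congrArg (fun t => t.1.2) hg

end Groth.Agent.ArtFun24
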