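import Groth.Prelude.Def_ArtFun2
import Mathlib.RingTheory.AdicCompletion.Functoriality
import Mathlib.RingTheory.Nakayama
import Mathlib.LinearAlgebra.Dual.Lemmas
import Mathlib.Tactic.LinearCombination

/-! Endomorphisms of complete coefficient rings inducing the identity on the tangent space. -/

universe u

open CategoryTheory IsLocalRing

namespace Groth.Agent.ArtFun24

variable {Λ k : Type u} [CommRing Λ] [Field k] [Algebra Λ k]

lemma res_eq_zero_iff {S : Type u} [CommRing S] [Algebra Λ S] [IsLocalRing S] (res : S →ₐ[Λ] k)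
    (hs : Function.Surjective res) (x : S) : res x = 0 ↔ x ∈ maximalIdeal S := by
  have h : RingHom.ker (res : S →+* k) = maximalIdeal S :=
    IsLocalRing.eq_maximalIdeal (RingHom.ker_isMaximal_of_surjective (res : S →+* k) hs)
  rw [← h, RingHom.mem_ker]; rfl

/-- `m² + m_Λ S`, where `m_Λ` is the kernel of `Λ → k`. -/
def relSq (Λ k : Type u) [CommRing Λ] [Field k] [Algebra Λ k] (S : Type u) [CommRing S]
    [Algebra Λ S] [IsLocalRing S] : Ideal S :=
  maximalIdeal S ^ 2 ⊔ (RingHom.ker (algebraMap Λ k)).map (algebraMap Λ S)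

/-- Tangent vectors separate `S/(m² + m_Λ S)`. -/
theorem exists_hom_dual {S : Type u} [CommRing S] [Algebra Λ S] [IsLocalRing S]
    (hk : Function.Surjective (algebraMap Λ k)) (res : S →ₐ[Λ] k) (hs : Function.Surjective res)
    (x : S) (hx : res x = 0) (hxI : x ∉ relSq Λ k S) :
    ∃ φ : ArtFun.HomSet S res (ArtFun.Art.dual Λ k),
      TrivSqZeroExt.snd (φ.1 x : DualNumber k) ≠ 0 := by
  let I := relSq Λ k S
  have hker : RingHom.ker (algebraMap Λ k) ≤ RingHom.ker (algebraMap Λ (S ⧸ I)) := by
    intro l hl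
    rw [RingHom.mem_ker, IsScalarTower.algebraMap_apply Λ S (S ⧸ I), Ideal.Quotient.algebraMap_eq,
      Ideal.Quotient.eq_zero_iff_mem]
    exact Ideal.mem_sup_right (Ideal.mem_map_of_mem _ hl)
  let σ : k →+* S ⧸ I := RingHom.liftOfSurjective (algebraMap Λ k) hk ⟨_, hker⟩
  have hσ : ∀ l, σ (algebraMap Λ k l) = algebraMap Λ (S ⧸ I) l := fun l =>
    RingHom.liftOfRightInverse_comp_apply _ _ _ _ _
  letI : Algebra k (S ⧸ I) := σ.toAlgebra
  let res' : S ⧸ I →+* k := Ideal.Quotient.lift I (res : S →+* k) (by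
    intro a ha
    refine (res_eq_zero_iff res hs a).2 (?_ : a ∈ maximalIdeal S)
    refine (sup_le (Ideal.pow_le_self two_ne_zero) (Ideal.map_le_iff_le_comap.2 fun l hl => ?_) :
      relSq Λ k S ≤ maximalIdeal S) ha
    rw [Ideal.mem_comap, ← res_eq_zero_iff res hs, res.commutes]; exact hl)
  have hres' : ∀ c, res' (σ c) = c := by
    intro c
    obtain ⟨l, rfl⟩ := hk c
    rw [hσ]; exact res.commutes l
  have hd : Ideal.Quotient.mk I x ∉ Submodule.span k {(1 : S ⧸ I)} := by
    rw [Submodule.mem_span_singleton]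
    rintro ⟨c, hc⟩
    rw [Algebra.smul_def, mul_one] at hc
    have : c = 0 := by
      rw [← hres' c]
      exact (congrArg res' hc).trans hx
    rw [this, map_zero, eq_comm, Ideal.Quotient.eq_zero_iff_mem] at hc
    exact hxI hc
  obtain ⟨D, hDd, hD1⟩ := Submodule.exists_dual_map_eq_bot_of_notMem hd inferInstance
  have hD : D 1 = 0 := (Submodule.eq_bot_iff _).1 hD1 _
    (Submodule.mem_map_of_mem (Submodule.mem_span_singleton_self 1))
  let q := Ideal.Quotient.mk I
  have hmul : ∀ a b : S, D (q (a * b)) = res a * D (q b) + D (q a) * res b := by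
    intro a b
    have dec : ∀ a : S, ∃ a' : S, res a' = 0 ∧ q a = σ (res a) + q a' := by
      intro a
      obtain ⟨l, hl⟩ := hk (res a)
      refine ⟨a - algebraMap Λ S l, by rw [map_sub, res.commutes, hl, sub_self], ?_⟩
      rw [← hl, hσ, map_sub]
      exact (add_sub_cancel _ _).symm
    obtain ⟨a', ha, ea⟩ := dec a
    obtain ⟨b', hb, eb⟩ := dec b
    have h0 : q a' * q b' = 0 := by
      rw [← map_mul, Ideal.Quotient.eq_zero_iff_mem]
      refine Ideal.mem_sup_left ?_
      rw [sq]
      exact Ideal.mul_mem_mul ((res_eq_zero_iff res hs _).1 ha) ((res_eq_zero_iff res hs _).1 hb)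
    have hDσ : ∀ c, D (σ c) = 0 := fun c => by
      have : σ c = c • (1 : S ⧸ I) := by rw [Algebra.smul_def, mul_one]; rfl
      rw [this, map_smul, hD, smul_zero]
    have hsm : ∀ c y, D (σ c * y) = c * D y := fun c y => by
      have : σ c * y = c • y := (Algebra.smul_def c y).symm
      rw [this, map_smul, smul_eq_mul]
    have he : q (a * b) = σ (res a * res b) + σ (res a) * q b' + σ (res b) * q a' := by
      rw [map_mul, ea, eb, map_mul]
      linear_combination h0
    rw [he, map_add, map_add, hDσ, hsm, hsm, ea, eb, map_add, map_add, hDσ, hDσ]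
    ring
  let φ : S →ₐ[Λ] DualNumber k :=
    { toFun := fun a => TrivSqZeroExt.inl (res a) + TrivSqZeroExt.inr (D (q a))
      map_one' := by
        have : D (q 1) = 0 := by rw [map_one]; exact hD
        rw [map_one, this]; ext <;> simp
      map_mul' := fun a b => by
        rw [hmul]
        ext <;> simp [mul_comm, add_comm]
      map_zero' := by simp
      map_add' := fun a b => by
        ext <;> simp
      commutes' := fun l => by
        have : D (q (algebraMap Λ S l)) = 0 := by
          show D (algebraMap Λ (S ⧸ I) l) = 0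
          rw [← hσ]
          have : σ (algebraMap Λ k l) = algebraMap Λ k l • (1 : S ⧸ I) := by
            rw [Algebra.smul_def, mul_one]; rfl
          rw [this, map_smul, hD, smul_zero]
        rw [this, res.commutes]
        ext <;> simp [TrivSqZeroExt.algebraMap_eq_inl'] }
  refine ⟨⟨φ, AlgHom.ext fun a => ?_⟩, ?_⟩
  · show TrivSqZeroExt.fst (φ a) = res a
    simp [φ]
  · show TrivSqZeroExt.snd (TrivSqZeroExt.inl (res x) + TrivSqZeroExt.inr (D (q x))) ≠ 0
    rw [TrivSqZeroExt.snd_add, TrivSqZeroExt.snd_inl, TrivSqZeroExt.snd_inr, zero_add]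
    exact hDd

theorem bijective_of_forall_dual (hk : Function.Surjective (algebraMap Λ k))
    (R : ArtFun.CRing Λ k) (α : R.carrier →ₐ[Λ] R.carrier) (hα : R.res.comp α = R.res)
    (hfix : ∀ (φ : ArtFun.HomSet R.carrier R.res (ArtFun.Art.dual Λ k)) (x : R.carrier),
      φ.1 (α x) = φ.1 x) :
    Function.Bijective α := by
  have := R.isAdicComplete
  have hs := R.res_surjective
  have hr : ∀ x, R.res (α x) = R.res x := fun x => DFunLike.congr_fun hα x
  set m := maximalIdeal R.carrier with hm
  let f : R.carrier →+* R.carrier := α.toRingHom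
  have hI : ∀ x, α x - x ∈ relSq Λ k R.carrier := by
    intro x
    by_contra h
    obtain ⟨φ, hφ⟩ := exists_hom_dual hk R.res hs (α x - x) (by rw [map_sub, hr, sub_self]) h
    rw [map_sub, hfix, sub_self] at hφ
    exact hφ rfl
  have hle : m.map f ≤ m := Ideal.map_le_iff_le_comap.2 fun x hx => by
    rw [hm, ← res_eq_zero_iff R.res hs] at hx
    show α x ∈ maximalIdeal R.carrier
    rw [← res_eq_zero_iff R.res hs, hr, hx]
  have hΛ : (RingHom.ker (algebraMap Λ k)).map (algebraMap Λ R.carrier) ≤ m.map f := by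
    refine Ideal.map_le_iff_le_comap.2 fun l hl => ?_
    show algebraMap Λ R.carrier l ∈ m.map f
    rw [← α.commutes l]
    refine Ideal.mem_map_of_mem f ?_
    rw [hm, ← res_eq_zero_iff R.res hs, R.res.commutes]
    exact hl
  have hge : m ≤ m.map f := by
    refine Submodule.le_of_le_smul_of_le_jacobson_bot (I := m) (IsNoetherian.noetherian _)
      (IsLocalRing.maximalIdeal_le_jacobson ⊥) ?_
    intro x hx
    rw [smul_eq_mul, ← sq, show x = α x - (α x - x) by ring]
    refine Submodule.sub_mem _ (Submodule.mem_sup_left (Ideal.mem_map_of_mem f hx)) ?_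
    exact (sup_le le_sup_right (hΛ.trans le_sup_left) : relSq Λ k R.carrier ≤ _) (hI x)
  have heq : m.map f = m := le_antisymm hle hge
  have : IsHausdorff (m.map f) R.carrier := by rw [heq]; exact inferInstance
  have hsurj : Function.Surjective f := by
    refine surjective_of_mk_map_comp_surjective (I := m) f ?_
    intro y
    obtain ⟨y, rfl⟩ := Ideal.Quotient.mk_surjective y
    refine ⟨y, (Ideal.Quotient.eq).2 ?_⟩
    rw [heq, hm, ← res_eq_zero_iff R.res hs, map_sub]
    exact sub_eq_zero.2 (hr y)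
  refine ⟨?_, hsurj⟩
  show Function.Injective f
  rw [RingHom.injective_iff_ker_eq_bot]
  let c : ℕ →o Ideal R.carrier := ⟨fun n => RingHom.ker (f ^ n), monotone_nat_of_le_succ fun n x hx => by
    rw [RingHom.mem_ker] at hx ⊢
    rw [pow_succ']
    show f ((f ^ n) x) = 0
    rw [hx, map_zero]⟩
  obtain ⟨n, hn⟩ := WellFoundedGT.monotone_chain_condition c
  have hsn : ∀ n : ℕ, Function.Surjective ⇑(f ^ n) := by
    intro n
    rw [RingHom.coe_pow]
    exact hsurj.iterate n
  rw [eq_bot_iff]
  intro x hx
  obtain ⟨y, rfl⟩ := hsn n x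
  have h1 : y ∈ c (n + 1) := by
    show (f ^ (n + 1)) y = 0
    rw [pow_succ']
    exact hx
  rw [← hn (n + 1) (Nat.le_succ n)] at h1
  exact h1

end Groth.Agent.ArtFun24
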